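import Mathlib

/-!
Quasi-finite algebras of finite presentation over absolutely flat rings with algebraically closed residue
fields: modulo nilpotents they are finite etale.
-/

set_option autoImplicit false

universe u

open Polynomial

namespace Groth.Agent.QFDecomp

variable {R B : Type u} [CommRing R] [CommRing B] [Algebra R B]

/-- Absolutely flat, with every monic polynomial of positive degree having a root. -/
structure IsRegularRootClosed (R : Type u) [CommRing R] : Prop where
  reg : ∀ x : R, ∃ y, x * x * y = x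
  root : ∀ q : R[X], q.Monic → q.natDegree ≠ 0 → ∃ r, q.eval r = 0

theorem IsRegularRootClosed.isReduced (h : IsRegularRootClosed R) : _root_.IsReduced R := by
  refine isReduced_iff_pow_one_lt 2 one_lt_two |>.2 fun x hx => ?_
  obtain ⟨y, hy⟩ := h.reg x
  rw [← hy, ← pow_two, hx, zero_mul]

variable (h : IsRegularRootClosed R) (p : Ideal R) [p.IsPrime]
include h

theorem isMaximal : p.IsMaximal := by
  refine Ideal.isMaximal_iff.2 ⟨(Ideal.ne_top_iff_one p).1 ‹p.IsPrime›.ne_top, fun J x hpJ hx hxJ => ?_⟩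
  obtain ⟨y, hy⟩ := h.reg x
  have : x * (1 - x * y) = 0 := by linear_combination -hy
  have h1 : 1 - x * y ∈ p := (‹p.IsPrime›.mem_or_mem (this ▸ p.zero_mem)).resolve_left hx
  simpa using J.add_mem (hpJ h1) (J.mul_mem_right y hxJ)

theorem exists_kill {a : R} (ha : a ∈ p) : ∃ e ∉ p, e * a = 0 := by
  obtain ⟨y, hy⟩ := h.reg a
  refine ⟨1 - a * y, fun he => ‹p.IsPrime›.ne_top ((Ideal.eq_top_iff_one p).2 ?_), by linear_combination -hy⟩
  simpa using p.add_mem he (p.mul_mem_right y ha)

theorem exists_kill_map {b : B} (hb : b ∈ p.map (algebraMap R B)) : ∃ e ∉ p, algebraMap R B e * b = 0 := by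
  induction hb using Submodule.span_induction with
  | mem x hx =>
    obtain ⟨a, ha, rfl⟩ := hx
    obtain ⟨e, he, hea⟩ := exists_kill h p ha
    exact ⟨e, he, by rw [← map_mul, hea, map_zero]⟩
  | zero => exact ⟨1, fun h1 => ‹p.IsPrime›.ne_top ((Ideal.eq_top_iff_one p).2 h1), mul_zero _⟩
  | add x y _ _ ihx ihy =>
    obtain ⟨e, he, hex⟩ := ihx
    obtain ⟨e', he', hey⟩ := ihy
    refine ⟨e * e', fun hm => (‹p.IsPrime›.mem_or_mem hm).elim he he', ?_⟩
    rw [map_mul]
    linear_combination algebraMap R B e' * hex + algebraMap R B e * hey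
  | smul c x _ ih =>
    obtain ⟨e, he, hex⟩ := ih
    exact ⟨e, he, by rw [smul_eq_mul, mul_left_comm, hex, mul_zero]⟩

variable [Algebra.QuasiFinite R B]

theorem exists_value (Q : Ideal B) [Q.IsPrime] [Q.LiesOver p] (b : B) : ∃ r, algebraMap R B r - b ∈ Q := by
  haveI := isMaximal h p
  letI : Field (R ⧸ p) := Ideal.Quotient.field p
  haveI : IsAlgClosed (R ⧸ p) := IsAlgClosed.of_exists_root _ fun q hq hirr => by
    obtain ⟨q', hq', hdeg, hmon⟩ := lifts_and_natDegree_eq_and_monic
      (show q ∈ lifts (Ideal.Quotient.mk p) from (Polynomial.mem_lifts q).2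
        (Polynomial.map_surjective _ Ideal.Quotient.mk_surjective q)) hq
    obtain ⟨r, hr⟩ := h.root q' hmon (hdeg ▸ hirr.natDegree_pos.ne')
    exact ⟨Ideal.Quotient.mk p r, by rw [← hq', Polynomial.eval_map, Polynomial.eval₂_at_apply, hr, map_zero]⟩
  haveI : Algebra.QuasiFinite (R ⧸ p) (B ⧸ Q) := Algebra.QuasiFinite.of_restrictScalars R (R ⧸ p) (B ⧸ Q)
  haveI : Module.Finite (R ⧸ p) (B ⧸ Q) := Module.Finite.of_quasiFinite
  obtain ⟨c, hc⟩ := (IsAlgClosed.algebraMap_bijective_of_isIntegral (k := R ⧸ p) (K := B ⧸ Q)).2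
    (Ideal.Quotient.mk Q b)
  obtain ⟨r, rfl⟩ := Ideal.Quotient.mk_surjective c
  exact ⟨r, Ideal.Quotient.eq.1 hc⟩

theorem isMaximal_over (Q : Ideal B) [Q.IsPrime] [Q.LiesOver p] : Q.IsMaximal := by
  haveI := isMaximal h p
  refine Ideal.isMaximal_iff.2 ⟨(Ideal.ne_top_iff_one Q).1 ‹Q.IsPrime›.ne_top, fun J x hQJ hx hxJ => ?_⟩
  obtain ⟨r, hr⟩ := exists_value h p Q x
  have hrp : r ∉ p := fun hrp => hx (by
    have := Q.sub_mem ((Q.mem_of_liesOver p r).1 hrp) hr
    simpa using this)
  obtain ⟨y, hy⟩ := h.reg r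
  have h1 : algebraMap R B r * algebraMap R B y - 1 ∈ Q := by
    rw [← map_mul, ← map_one (algebraMap R B), ← map_sub, ← Q.mem_of_liesOver p]
    refine (‹p.IsPrime›.mem_or_mem (show r * (r * y - 1) ∈ p from ?_)).resolve_left hrp
    rw [show r * (r * y - 1) = 0 by linear_combination hy]
    exact p.zero_mem
  have h2 : algebraMap R B r ∈ J := by simpa using J.add_mem (hQJ hr) hxJ
  simpa using J.sub_mem (J.mul_mem_right (algebraMap R B y) h2) (hQJ h1)

theorem exists_kill_nilpotent {g : B} (hg : ∀ Q ∈ p.primesOver B, g ∈ Q) :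
    ∃ e ∉ p, IsNilpotent (algebraMap R B e * g) := by
  haveI := isMaximal h p
  have hrad : g ∈ (p.map (algebraMap R B)).radical := by
    rw [Ideal.radical_eq_sInf]
    refine Submodule.mem_sInf.2 fun Q ⟨hle, hQ⟩ => hg Q ⟨hQ, ⟨?_⟩⟩
    exact (Ideal.IsMaximal.eq_of_le inferInstance (hQ.comap (algebraMap R B)).ne_top
      (Ideal.map_le_iff_le_comap.1 hle))
  obtain ⟨N, hN⟩ := hrad
  obtain ⟨e, he, heg⟩ := exists_kill_map h p hN
  refine ⟨e, he, N + 1, ?_⟩
  rw [mul_pow, pow_succ (algebraMap R B e), pow_succ g]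
  linear_combination (algebraMap R B e) ^ N * g * heg

omit h in
theorem exists_prod_kill {ι : Type*} (s : Finset ι) (P : ι → R → Prop) (hP : ∀ i e e', P i e → P i (e * e'))
    (hs : ∀ i ∈ s, ∃ e ∉ p, P i e) : ∃ f ∉ p, ∀ i ∈ s, P i f := by
  classical
  induction s using Finset.induction with
  | empty => exact ⟨1, fun h1 => ‹p.IsPrime›.ne_top ((Ideal.eq_top_iff_one p).2 h1), by simp⟩
  | insert i t _ ih =>
    obtain ⟨f, hf, hft⟩ := ih fun j hj => hs j (Finset.mem_insert_of_mem hj)
    obtain ⟨e, he, hei⟩ := hs i (Finset.mem_insert_self i t)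
    refine ⟨f * e, fun hm => (‹p.IsPrime›.mem_or_mem hm).elim hf he, fun j hj => ?_⟩
    obtain rfl | hj := Finset.mem_insert.1 hj
    · exact mul_comm e f ▸ hP j e f hei
    · exact hP j f e (hft j hj)

variable [Algebra.FinitePresentation R B]

/-- Near every point the reduction is a power of the base. -/
theorem exists_away : ∃ f ∉ p, (Localization.awayMap (algebraMap R (B ⧸ nilradical B)) f).Finite ∧
    (Localization.awayMap (algebraMap R (B ⧸ nilradical B)) f).Etale := by
  classical
  obtain ⟨N, π, hπ, hker⟩ := Algebra.FinitePresentation.out (R := R) (A := B)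
  obtain ⟨G, hG⟩ := hker
  let ι := p.primesOver B
  haveI : Fintype ι := (Algebra.QuasiFinite.finite_primesOver p).fintype
  haveI : ∀ Q : ι, Q.1.IsPrime := fun Q => Q.2.1
  haveI : ∀ Q : ι, Q.1.LiesOver p := fun Q => Q.2.2
  choose rs hrs using fun (Q : ι) (l : Fin N) => exists_value h p Q.1 (π (MvPolynomial.X l))
  have hval : ∀ (Q : ι) (q : MvPolynomial (Fin N) R),
      algebraMap R B (MvPolynomial.eval (rs Q) q) - π q ∈ Q.1 := fun Q q => by
    induction q using MvPolynomial.induction_on with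
    | C a =>
      rw [MvPolynomial.eval_C, ← MvPolynomial.algebraMap_eq, AlgHom.commutes, sub_self]
      exact Q.1.zero_mem
    | add q q' hq hq' =>
      simp only [map_add]
      rw [add_sub_add_comm]
      exact Q.1.add_mem hq hq'
    | mul_X q l hq =>
      simp only [map_mul, MvPolynomial.eval_X]
      convert Q.1.add_mem (Q.1.mul_mem_right (algebraMap R B (rs Q l)) hq)
        (Q.1.mul_mem_left (π q) (hrs Q l)) using 1
      ring
  have hb : ∀ Q : ι, ∃ q : MvPolynomial (Fin N) R, ∀ Q' : ι, π q - (if Q' = Q then 1 else 0) ∈ Q'.1 := fun Q => by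
    obtain ⟨b, hb⟩ := Ideal.exists_forall_sub_mem_ideal (I := fun Q : ι => Q.1) (fun Q₁ Q₂ hne =>
      haveI := isMaximal_over h p Q₁.1
      haveI := isMaximal_over h p Q₂.1
      Ideal.isCoprime_iff_sup_eq.2 (Ideal.IsMaximal.coprime_of_ne inferInstance inferInstance
        fun e => hne (Subtype.ext e))) fun Q' => if Q' = Q then 1 else 0
    obtain ⟨q, rfl⟩ := hπ b
    exact ⟨q, hb⟩
  choose q hq using hb
  -- the finitely many elements of `p`
  have hmem : ∀ (Q : ι) (s : MvPolynomial (Fin N) R) (c : R), π s - algebraMap R B c ∈ Q.1 →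
      MvPolynomial.eval (rs Q) s - c ∈ p := fun Q s c hs => by
    rw [Q.1.mem_of_liesOver p, map_sub]
    convert Q.1.add_mem (hval Q s) hs using 1
    ring
  obtain ⟨f₁, hf₁, hk₁⟩ := exists_prod_kill p (Finset.univ ×ˢ G : Finset (ι × MvPolynomial (Fin N) R))
    (fun i e => e * MvPolynomial.eval (rs i.1) i.2 = 0) (fun i e e' he => by rw [mul_right_comm, he, zero_mul])
    fun i hi => exists_kill h p (by
      have := hmem i.1 i.2 0 (by
        rw [map_zero, sub_zero, show π i.2 = 0 from
          (hG ▸ Ideal.subset_span (Finset.mem_product.1 hi).2 : i.2 ∈ RingHom.ker π.toRingHom)]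
        exact i.1.1.zero_mem)
      simpa using this)
  obtain ⟨f₂, hf₂, hk₂⟩ := exists_prod_kill p (Finset.univ : Finset (ι × ι))
    (fun i e => e * (MvPolynomial.eval (rs i.1) (q i.2) - if i.1 = i.2 then 1 else 0) = 0)
    (fun i e e' he => by rw [mul_right_comm, he, zero_mul])
    fun i _ => exists_kill h p (hmem i.1 (q i.2) _ (by
      have := hq i.2 i.1
      split_ifs at this ⊢ with hi <;> simpa using this))
  have hQ : ∀ Q ∈ p.primesOver B, ∀ x : B, (∀ Q' : ι, x ∈ Q'.1) → x ∈ Q := fun Q hQ x hx => hx ⟨Q, hQ⟩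
  have hnil : ∀ x : B, (∀ Q' : ι, x ∈ Q'.1) → ∃ e ∉ p, IsNilpotent (algebraMap R B e * x) := fun x hx =>
    exists_kill_nilpotent h p fun Q hQ => hx ⟨Q, hQ⟩
  obtain ⟨f₃, hf₃, hk₃⟩ := exists_prod_kill p (Finset.univ : Finset (ι × ι))
    (fun i e => IsNilpotent (algebraMap R B e * (π (q i.1) * π (q i.2) - if i.1 = i.2 then π (q i.1) else 0)))
    (fun i e e' he => by
      rw [map_mul, mul_right_comm]
      exact (Commute.all _ _).isNilpotent_mul_right he)
    fun i _ => hnil _ fun Q' => by
      have h1 := hq i.1 Q'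
      have h2 := hq i.2 Q'
      rw [← Ideal.Quotient.eq_zero_iff_mem] at h1 h2 ⊢
      simp only [map_sub, map_mul, apply_ite (Ideal.Quotient.mk Q'.1), map_one, map_zero, sub_eq_zero] at h1 h2 ⊢
      rw [h1, h2]
      split_ifs <;> simp_all
  obtain ⟨f₄, hf₄, hk₄⟩ := exists_prod_kill p (Finset.univ : Finset (Option (Fin N)))
    (fun i e => IsNilpotent (algebraMap R B e * (i.elim ((∑ Q, π (q Q)) - 1)
      fun l => π (MvPolynomial.X l) - ∑ Q, algebraMap R B (rs Q l) * π (q Q))))
    (fun i e e' he => by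
      rw [map_mul, mul_right_comm]
      exact (Commute.all _ _).isNilpotent_mul_right he)
    fun i _ => hnil _ fun Q' => by
      rw [← Ideal.Quotient.eq_zero_iff_mem]
      have h1 : ∀ Q, Ideal.Quotient.mk Q'.1 (π (q Q)) = if Q' = Q then 1 else 0 := fun Q => by
        rw [← sub_eq_zero]
        simpa [apply_ite (Ideal.Quotient.mk Q'.1)] using Ideal.Quotient.eq_zero_iff_mem.2 (hq Q Q')
      obtain _ | l := i
      · simp [h1]
      · have := (Ideal.Quotient.eq.2 (hrs Q' l)).symm
        simp only [Option.elim, map_sub, map_sum, map_mul, h1, mul_ite, mul_one, mul_zero, Finset.sum_ite_eq,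
          Finset.mem_univ, if_true]
        exact sub_eq_zero.2 this
  obtain ⟨f, hfdef⟩ : ∃ f, f = f₁ * f₂ * f₃ * f₄ := ⟨_, rfl⟩
  have hf : f ∉ p := fun hm => (‹p.IsPrime›.mem_or_mem (hfdef ▸ hm)).elim
    (fun hm => (‹p.IsPrime›.mem_or_mem hm).elim (fun hm => (‹p.IsPrime›.mem_or_mem hm).elim hf₁ hf₂) hf₃) hf₄
  refine ⟨f, hf, ?_⟩
  let A := B ⧸ nilradical B
  let S := Localization.Away f
  haveI : _root_.IsReduced R := h.isReduced
  haveI : _root_.IsReduced S := (inferInstance : _root_.IsReduced (Localization (Submonoid.powers f)))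
  let β : ι → A := fun Q => Ideal.Quotient.mk _ (π (q Q))
  have hu : IsUnit (algebraMap R S f) := IsLocalization.Away.algebraMap_isUnit f
  have hS : ∀ {d x : R}, d ∣ f → d * x = 0 → algebraMap R S x = 0 := fun {d x} hd hdx => by
    obtain ⟨c, hc⟩ := hd
    refine hu.mul_left_cancel ?_
    rw [mul_zero, ← map_mul, show f * x = c * (d * x) by rw [hc]; ring, hdx, mul_zero, map_zero]
  have hA : ∀ {d : R} {x : B}, d ∣ f → IsNilpotent (algebraMap R B d * x) →
      algebraMap R A f * Ideal.Quotient.mk _ x = 0 := fun {d x} hd hn => by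
    obtain ⟨c, hc⟩ := hd
    rw [show algebraMap R A f = Ideal.Quotient.mk _ (algebraMap R B f) from rfl, ← map_mul,
      Ideal.Quotient.eq_zero_iff_mem, mem_nilradical, hc, map_mul, mul_right_comm]
    exact (Commute.all _ _).isNilpotent_mul_right hn
  -- evaluation at the points
  let φ : ι → (B →ₐ[R] S) := fun Q => AlgHom.liftOfSurjective π hπ (MvPolynomial.aeval fun l => algebraMap R S (rs Q l))
    (fun s (hs : s ∈ RingHom.ker π.toRingHom) => by
      rw [← hG] at hs
      refine RingHom.mem_ker.2 ?_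
      induction hs using Submodule.span_induction with
      | mem g hg =>
        show MvPolynomial.aeval (algebraMap R S ∘ rs Q) g = 0
        rw [MvPolynomial.aeval_algebraMap_apply, MvPolynomial.aeval_eq_eval]
        exact hS ⟨f₂ * f₃ * f₄, by rw [hfdef]; ring⟩ (hk₁ (Q, g) (Finset.mem_product.2 ⟨Finset.mem_univ _, hg⟩))
      | zero => exact map_zero _
      | add a b _ _ ha hb => rw [map_add, ha, hb, add_zero]
      | smul c a _ ha => rw [smul_eq_mul, map_mul, ha, mul_zero])
  have hφ : ∀ (Q : ι) s, φ Q (π s) = algebraMap R S (MvPolynomial.eval (rs Q) s) := fun Q s => by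
    rw [AlgHom.liftOfSurjective_apply]
    show MvPolynomial.aeval (algebraMap R S ∘ rs Q) s = _
    rw [MvPolynomial.aeval_algebraMap_apply, MvPolynomial.aeval_eq_eval]
  let τ : A →ₐ[R] (ι → S) := Ideal.Quotient.liftₐ _ (Pi.algHom R _ φ) fun x hx =>
    funext fun Q => ((mem_nilradical.1 hx).map (φ Q)).eq_zero
  have hτ : ∀ s (Q : ι), τ (Ideal.Quotient.mk _ (π s)) Q = algebraMap R S (MvPolynomial.eval (rs Q) s) :=
    fun s Q => hφ Q s
  have hτβ : ∀ Q Q' : ι, τ (β Q) Q' = if Q' = Q then 1 else 0 := fun Q Q' => by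
    rw [hτ, ← sub_eq_zero]
    have := hS (x := MvPolynomial.eval (rs Q') (q Q) - if Q' = Q then 1 else 0) ⟨f₁ * f₃ * f₄, by rw [hfdef]; ring⟩
      (hk₂ (Q', Q) (Finset.mem_univ _))
    simpa [apply_ite (algebraMap R S)] using this
  have horth : ∀ Q Q' : ι, algebraMap R A f * (β Q * β Q') = algebraMap R A f * if Q = Q' then β Q else 0 :=
    fun Q Q' => by
    rw [← sub_eq_zero, ← mul_sub]
    have := hA ⟨f₁ * f₂ * f₄, by rw [hfdef]; ring⟩ (hk₃ (Q, Q') (Finset.mem_univ _))
    simpa [β, apply_ite (Ideal.Quotient.mk (nilradical B))] using this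
  have hrep : ∀ s, algebraMap R A f * Ideal.Quotient.mk _ (π s) =
      algebraMap R A f * ∑ Q, algebraMap R A (MvPolynomial.eval (rs Q) s) * β Q := fun s => by
    induction s using MvPolynomial.induction_on with
    | C a =>
      simp only [MvPolynomial.eval_C, ← Finset.mul_sum]
      rw [← sub_eq_zero, ← MvPolynomial.algebraMap_eq, AlgHom.commutes]
      have := hA ⟨f₁ * f₂ * f₃, by rw [hfdef]; ring⟩ (hk₄ none (Finset.mem_univ _))
      simp only [Option.elim, map_sub, map_sum, map_one] at this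
      rw [show Ideal.Quotient.mk (nilradical B) (algebraMap R B a) = algebraMap R A a from rfl]
      linear_combination (-algebraMap R A a) * this
    | add s t hs ht =>
      simp only [map_add, add_mul, Finset.sum_add_distrib, mul_add, hs, ht]
    | mul_X s l hs =>
      have hx : algebraMap R A f * Ideal.Quotient.mk _ (π (MvPolynomial.X l)) =
          algebraMap R A f * ∑ Q, algebraMap R A (rs Q l) * β Q := by
        rw [← sub_eq_zero, ← mul_sub]
        have := hA ⟨f₁ * f₂ * f₃, by rw [hfdef]; ring⟩ (hk₄ (some l) (Finset.mem_univ _))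
        simp only [Option.elim, map_sub, map_sum, map_mul] at this
        exact this
      rw [map_mul, map_mul, mul_left_comm, hx, mul_left_comm, ← mul_assoc, hs, mul_assoc,
        Finset.sum_mul_sum, Finset.mul_sum, Finset.mul_sum]
      refine Finset.sum_congr rfl fun Q _ => ?_
      rw [Finset.mul_sum, Finset.sum_eq_single Q]
      · rw [map_mul (MvPolynomial.eval (rs Q)), MvPolynomial.eval_X, map_mul]
        have := horth Q Q
        rw [if_pos rfl] at this
        linear_combination (algebraMap R A (MvPolynomial.eval (rs Q) s) * algebraMap R A (rs Q l)) * this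
      · intro Q' _ hne
        have := horth Q Q'
        rw [if_neg fun e => hne e.symm, mul_zero] at this
        linear_combination (algebraMap R A (MvPolynomial.eval (rs Q) s) * algebraMap R A (rs Q' l)) * this
      · exact fun hn => absurd (Finset.mem_univ Q) hn
  letI : Algebra A (ι → S) := τ.toRingHom.toAlgebra
  haveI : IsLocalization.Away (algebraMap R A f) (ι → S) := by
    refine IsLocalization.Away.mk _ ?_ (fun z => ?_) (fun a b hab => ?_)
    · show IsUnit (τ (algebraMap R A f))
      rw [τ.commutes, Pi.isUnit_iff]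
      exact fun _ => hu
    · obtain ⟨⟨_, m, rfl⟩, hm⟩ := IsLocalization.exist_integer_multiples_of_finite (Submonoid.powers f) z
      choose r hr using hm
      refine ⟨m, ∑ Q, algebraMap R A (r Q) * β Q, funext fun Q => ?_⟩
      show z Q * (τ (algebraMap R A f) Q) ^ m = τ (∑ Q, algebraMap R A (r Q) * β Q) Q
      rw [map_sum, Finset.sum_apply, Finset.sum_eq_single Q]
      · rw [map_mul, Pi.mul_apply, hτβ, if_pos rfl, mul_one, τ.commutes, τ.commutes]
        show z Q * (algebraMap R S f) ^ m = algebraMap R S (r Q)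
        rw [hr Q, Algebra.smul_def, map_pow, mul_comm]
      · exact fun Q' _ hne => by rw [map_mul, Pi.mul_apply, hτβ, if_neg (Ne.symm hne), mul_zero]
      · exact fun hn => absurd (Finset.mem_univ Q) hn
    · obtain ⟨u, hu'⟩ := Ideal.Quotient.mk_surjective (a - b)
      obtain ⟨s, rfl⟩ := hπ u
      have h0 : ∀ Q, ∃ m : ℕ, f ^ m * MvPolynomial.eval (rs Q) s = 0 := fun Q => by
        have h1 : algebraMap R S (MvPolynomial.eval (rs Q) s) = 0 := by
          rw [← hτ s Q, hu', map_sub, Pi.sub_apply]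
          exact sub_eq_zero.2 (congrFun hab Q)
        obtain ⟨⟨_, m, rfl⟩, hm⟩ := (IsLocalization.map_eq_zero_iff (Submonoid.powers f) S _).1 h1
        exact ⟨m, hm⟩
      choose m hm using h0
      refine ⟨∑ Q, m Q + 1, ?_⟩
      rw [← sub_eq_zero, ← mul_sub, ← hu', pow_succ, mul_assoc, hrep, ← mul_assoc, ← pow_succ, ← map_pow,
        Finset.mul_sum]
      refine Finset.sum_eq_zero fun Q _ => ?_
      have hle : m Q ≤ ∑ Q, m Q + 1 := (Finset.single_le_sum (fun _ _ => Nat.zero_le _) (Finset.mem_univ Q)).trans (Nat.le_succ _)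
      rw [← mul_assoc, ← map_mul, ← Nat.sub_add_cancel hle, pow_add, mul_assoc, hm Q, mul_zero, map_zero, zero_mul]
  let e : Localization.Away (algebraMap R A f) ≃ₐ[A] (ι → S) :=
    IsLocalization.algEquiv (Submonoid.powers (algebraMap R A f)) _ _
  have he : e.toRingEquiv.symm.toRingHom.comp (algebraMap S (ι → S)) =
      Localization.awayMap (algebraMap R A) f := by
    refine IsLocalization.ringHom_ext (Submonoid.powers f) (RingHom.ext fun x => ?_)
    simp only [RingHom.comp_apply, Localization.awayMap, IsLocalization.Away.map, IsLocalization.map_eq]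
    refine (RingEquiv.symm_apply_eq _).2 ?_
    show algebraMap S (ι → S) (algebraMap R S x) = e (algebraMap A _ (algebraMap R A x))
    rw [e.commutes]
    exact (τ.commutes x).symm
  rw [← he]
  exact ⟨RingHom.finite_respectsIso.1 _ _ (RingHom.finite_algebraMap.2 inferInstance),
    RingHom.Etale.respectsIso.1 _ _ (RingHom.etale_algebraMap.2 inferInstance)⟩

omit p in
/-- The reduction is finite etale. -/
theorem finite_etale : (algebraMap R (B ⧸ nilradical B)).Finite ∧ (algebraMap R (B ⧸ nilradical B)).Etale := by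
  let s : Set R := {f | (Localization.awayMap (algebraMap R (B ⧸ nilradical B)) f).Finite ∧
    (Localization.awayMap (algebraMap R (B ⧸ nilradical B)) f).Etale}
  have hs : Ideal.span s = ⊤ := by
    by_contra hne
    obtain ⟨m, hm, hsm⟩ := Ideal.exists_le_maximal _ hne
    obtain ⟨f, hf, hfs⟩ := exists_away (B := B) h m
    exact hf (hsm (Ideal.subset_span hfs))
  exact ⟨RingHom.finite_ofLocalizationSpan _ s hs fun r => r.2.1,
    RingHom.Etale.ofLocalizationSpan _ s hs fun r => r.2.2⟩

end Groth.Agent.QFDecomp
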